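import Cfsg.Agent.E8A.Two.Iface2
import Cfsg.Agent.E8A.Two.El
import Cfsg.Agent.E8A.Par.Ext

/-!
# The box TBa: the last step (helper44)

`x = X(0123)`; `X(a Q) = a X(Q)` for the 4-sets `Q`.  See `notes/E8A/twoB.md`.
-/

set_option autoImplicit false

namespace Cfsg.Agent.E8A.TwoB

open Cfsg Cfsg.Lie Module Equiv
open Cfsg.Agent.H952.F4 (MaxAlt)
open Cfsg.Agent.R2.T1.Odd (P)

universe u

/-- **NILF**: extremal vectors `X(Q)` which commute if `|Q ∩ Q'| ≠ 2`, with `∑ X(Q) = 0` over the 4-subsets of a 5-set -/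
def NILF : Prop := ∀ (F : Type u) [Field F] [Finite F] [CharP F 2] (H : Subgroup (G8 F)) (n : ℕ) [NeZero n]
  (φ : Alt n →* G8 F), MaxAlt H n φ → 8 ≤ n → NoFx φ → ∀ x : L8 (Kb F), Par.Extr x →
  (∀ a : Alt n, (∀ i : Fin n, i.val < 4 → ((a : Perm (Fin n)) i).val < 4) → act (emb0 (φ a)) x = x) →
  br x (act (emb0 (φ (P n [(3, 4), (4, 5)]))) x) = 0 →
  br x (act (emb0 (φ (P n [(0, 4), (1, 5), (2, 6), (6, 7)]))) x) = 0 →
  br x (act (emb0 (φ (P n [(0, 4), (1, 5), (2, 6), (3, 7)]))) x) = 0 →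
  ∑ i ∈ Finset.range 5, act (emb0 (φ (P n Two.Mk.c5 ^ i))) x = 0 → False

end Cfsg.Agent.E8A.TwoB
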