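import Cfsg.Agent.E8A.TwoB.Gl9

/-!
# Two commuting elements of class 80 with products of class 92: normal form (helper44)
-/

set_option autoImplicit false
set_option maxRecDepth 100000

namespace Cfsg.Agent.E8A.TwoB

open Cfsg Cfsg.Lie Module
open Matrix hiding J J_transpose
open Cfsg.Agent.H952.F4 (ev)
open Cfsg.Agent.H288.E8L (Q8 wt)
open Cfsg.Agent.H944.Tab (allAlc allAlc_spec dotN)
open Cfsg.Agent.H944.Kac (srefl)
open Cfsg.Agent.ChevalleyStructure.CoxeterGeom Cfsg.Agent.ChevalleyStructure.CoxeterGeomTypes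
open Cfsg.Agent.E8A.Frm (B0 fm8 finW8)
open Cfsg.Agent.E8A.Inf (toQ pk pw dg cn exN dg_pk cj_ev_pow)
open Cfsg.Agent.E8A.Reg5.Cls (ex dz Cj)
open Cfsg.Agent.E8A.Two Cfsg.Agent.E8A.TwoH

universe u

/-- coordinates modulo 6 -/
def lq (a : Q8) : List ℕ := [(a 0 % 6).toNat, (a 1 % 6).toNat, (a 2 % 6).toNat, (a 3 % 6).toNat, (a 4 % 6).toNat,
  (a 5 % 6).toNat, (a 6 % 6).toNat, (a 7 % 6).toNat]

theorem toQ_lq (a : Q8) (i : Fin 8) : toQ (lq a) i = a i % 6 := by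
  have h : ∀ m : ℤ, (((m % 6).toNat : ℕ) : ℤ) = m % 6 := fun m => Int.toNat_of_nonneg (by omega)
  fin_cases i <;> exact h _

/-- the test for the canonical vector -/
def Hd (g μ : Q8) : Prop := dg (pk 6 (lq ((3 : ℤ) • μ + (4 : ℤ) • g))) 3 = 0 ∧ ∃ k, ¬ 2 ∣ μ k

/-- the coweight of an eigenspace -/
def mu (b : Q8) (p : Fin 9) (s : ℤ) : Q8 := cw (∑ i, if 3 ∣ ex b (v9 i) - ex b (v9 p) - s then nn i else 0)

/-- the normal form -/
def Good (b : Q8) (p : Fin 9) : Prop := (∀ i, i ≠ p → ¬ 3 ∣ ex b (v9 i) - ex b (v9 p)) ∧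
  Hd (Pi.single 1 1 + b) (mu b p 2) ∧ Hd (Pi.single 1 1 - b) (mu b p 1)

instance decGood (b : Q8) (p : Fin 9) : Decidable (Good b p) := by
  unfold Good Hd
  infer_instance

/-- `ω₂ + k y` -/
def sh2 (k : ℕ) : List ℕ → List ℕ
  | a :: b :: l => k * a :: (1 + k * b) :: l.map (k * ·)
  | _ => []

/-- the test -/
def okN (y : List ℕ) : Bool :=
  bif Nat.beq (pw 3 (pk 3 (sh2 1 y)) 1 0) 92 && Nat.beq (pw 3 (pk 3 (sh2 2 y)) 1 0) 92 && Nat.beq (pw 3 (pk 3 y) 1 0) 80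
    then decide (∃ p, Good (toQ y) p) else true

theorem chkN : allAlc [3, 1, 3, 3, 3, 3, 3, 3] 8 okN = true := by decide +kernel

theorem toQ_sh2 (k : ℕ) (y : Fin 8 → ℕ) : toQ (sh2 k [y 0, y 1, y 2, y 3, y 4, y 5, y 6, y 7]) =
    Pi.single 1 1 + (k : ℤ) • toQ [y 0, y 1, y 2, y 3, y 4, y 5, y 6, y 7] := by
  funext i
  fin_cases i <;> simp [toQ, sh2]

theorem Hd.spec {g μ : Q8} (h : Hd g μ) : (∀ j, 3 ∣ ex g (wt j) → 2 ∣ ex μ (wt j)) ∧ ∃ a, ¬ 2 ∣ ex μ a := by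
  obtain ⟨h1, k, hk⟩ := h
  refine ⟨fun j hj => ?_, Pi.single k 1, ?_⟩
  · rw [dg_pk _ (by norm_num), cn, Finset.card_eq_zero, Finset.filter_eq_empty_iff] at h1
    by_contra hcon
    refine h1 (Finset.mem_univ j) ?_
    have h2 : ((ex (toQ (lq ((3 : ℤ) • μ + (4 : ℤ) • g))) (wt j) : ℤ) : ZMod 6) =
        ((ex ((3 : ℤ) • μ + (4 : ℤ) • g) (wt j) : ℤ) : ZMod 6) := by
      simp only [ex, Int.cast_sum, Int.cast_mul, toQ_lq]
      exact Finset.sum_congr rfl fun i _ => congrArg _ (ZMod.intCast_mod _ 6)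
    have h9 : ((exN 6 (lq ((3 : ℤ) • μ + (4 : ℤ) • g)) j).val : ℤ) = 3 := by
      rw [exN, h2, ex_add, ex_smul, ex_smul, ZMod.val_intCast]
      omega
    omega
  · rwa [ex, Finset.sum_eq_single k (fun i _ hi => by rw [Pi.single_eq_of_ne hi, zero_mul])
      fun h => absurd (Finset.mem_univ _) h, Pi.single_eq_same, one_mul]

theorem ex_srefl (b : Q8) (k : Fin 8) (a : Q8) :
    ex (srefl chevE8 8 k b) a = ex b (a - pairing (cartanOf chevE8 8) k a • Pi.single k 1) := by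
  simp [ex, srefl, pairing, mul_sub, Finset.sum_sub_distrib, Pi.single_apply, mul_comm, mul_left_comm, Finset.mul_sum]

theorem refl_v9 : ∀ (k : Fin 6) (i : Fin 9), v9 i - pairing (cartanOf chevE8 8) k.succ.succ (v9 i) • Pi.single k.succ.succ 1 =
    v9 (Equiv.swap k.succ.castSucc.castSucc k.succ.succ.castSucc i) := by decide +kernel

theorem refl_one : ∀ k : Fin 6, srefl chevE8 8 k.succ.succ (Pi.single 1 1 : Q8) = Pi.single 1 1 := by decide +kernel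

theorem sum_swap (f : Fin 9 → ℤ) (k : Fin 6) :
    ∑ i : Fin 9, (i : ℤ) * f (Equiv.swap k.succ.castSucc.castSucc k.succ.succ.castSucc i) =
      ∑ i : Fin 9, (i : ℤ) * f i + f k.succ.castSucc.castSucc - f k.succ.succ.castSucc := by
  fin_cases k <;> simp [Fin.sum_univ_succ, Equiv.swap_apply_def] <;> ring

section

variable {K : Type u} [Field K]

theorem sort {x y : G8 K} {ω : K} {b : Q8} (h : Cj2 x y ω (Pi.single 1 1) b) : ∃ b, Cj2 x y ω (Pi.single 1 1) b ∧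
    ∀ k : Fin 6, ex b (v9 k.succ.castSucc.castSucc) % 3 ≤ ex b (v9 k.succ.succ.castSucc) % 3 := by
  induction hm : (72 - ∑ i : Fin 9, (i : ℤ) * (ex b (v9 i) % 3)).toNat using Nat.strong_induction_on generalizing b with
  | _ m ih =>
    by_contra hc
    obtain ⟨k, hk⟩ : ∃ k : Fin 6, ex b (v9 k.succ.succ.castSucc) % 3 < ex b (v9 k.succ.castSucc.castSucc) % 3 := by
      by_contra h1
      push Not at h1
      exact hc ⟨b, h, h1⟩
    have h1 := h.refl k.succ.succ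
    rw [refl_one] at h1
    have h2 : ∑ i : Fin 9, (i : ℤ) * (ex (srefl chevE8 8 k.succ.succ b) (v9 i) % 3) ≤ ∑ i : Fin 9, (i : ℤ) * 2 :=
      Finset.sum_le_sum fun i _ => mul_le_mul_of_nonneg_left (by omega) (Int.natCast_nonneg _)
    have h3 : ∑ i : Fin 9, (i : ℤ) * 2 = 72 := by decide
    have h4 := sum_swap (fun i => ex b (v9 i) % 3) k
    rw [Finset.sum_congr rfl fun i _ => by rw [← refl_v9, ← ex_srefl]] at h4
    exact hc (ih _ (by omega) h1 rfl)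

theorem small {x y : G8 K} {ω : K} (hω : IsPrimitiveRoot ω 3) {b : Q8} (h : Cj2 x y ω (Pi.single 1 1) b) :
    ∃ v : Fin 8 → ℕ, dotN [3, 1, 3, 3, 3, 3, 3, 3] [v 0, v 1, v 2, v 3, v 4, v 5, v 6, v 7] ≤ 8 ∧
      Cj2 x y ω (Pi.single 1 1) (toQ [v 0, v 1, v 2, v 3, v 4, v 5, v 6, v 7]) := by
  obtain ⟨b, h, h1⟩ := sort h
  refine ⟨fun i => (b i % 3).toNat, ?_, h.congr hω (by norm_num) (fun _ => rfl) fun i => ?_⟩
  · have e0 := h1 0
    have e1 := h1 1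
    have e2 := h1 2
    have e3 := h1 3
    have e4 := h1 4
    have e5 := h1 5
    simp [ex, v9, Fin.sum_univ_eight] at e0 e1 e2 e3 e4 e5
    simp only [dotN]
    have k2 : (b 0 + b 2) % 3 = b 0 % 3 + b 2 % 3 := by omega
    have k3 : (b 0 + b 2 + b 3) % 3 = (b 0 + b 2) % 3 + b 3 % 3 := by omega
    have k4 : (b 0 + b 2 + b 3 + b 4) % 3 = (b 0 + b 2 + b 3) % 3 + b 4 % 3 := by omega
    have k5 : (b 0 + b 2 + b 3 + b 4 + b 5) % 3 = (b 0 + b 2 + b 3 + b 4) % 3 + b 5 % 3 := by omega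
    have k6 : (b 0 + b 2 + b 3 + b 4 + b 5 + b 6) % 3 = (b 0 + b 2 + b 3 + b 4 + b 5) % 3 + b 6 % 3 := by omega
    have k7 : (b 0 + b 2 + b 3 + b 4 + b 5 + b 6 + b 7) % 3 = (b 0 + b 2 + b 3 + b 4 + b 5 + b 6) % 3 + b 7 % 3 := by omega
    omega
  · have h2 : ∀ v : Fin 8 → ℕ, toQ [v 0, v 1, v 2, v 3, v 4, v 5, v 6, v 7] i = (v i : ℤ) := fun v => by fin_cases i <;> rfl
    rw [h2 fun i => (b i % 3).toNat, Int.toNat_of_nonneg (by omega)]
    exact (ZMod.intCast_mod _ 3).symm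

variable (K) in
/-- the projections to the eigenspaces -/
def pj (b : Q8) (p : Fin 9) (s : ℤ) : M9 K := diagonal fun i => if 3 ∣ ex b (v9 i) - ex b (v9 p) - s then 1 else 0

theorem rl_pj (b : Q8) (p : Fin 9) (s : ℤ) (a : Q8) : rl (io K (pj K b p s)) a = ((ex (mu b p s) a : ℤ) : K) := by
  have := finW8
  rw [pj, rl_diag, mu, ex_cw, map_sum, Int.cast_sum]
  refine Finset.sum_congr rfl fun i _ => ?_
  split_ifs
  · rw [one_mul, fm8.symm]
  · rw [zero_mul, map_zero, Int.cast_zero]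

theorem pj_mul (b : Q8) (p : Fin 9) (s : ℤ) : pj K b p s * pj K b p s = pj K b p s := by
  rw [pj, diagonal_mul_diagonal]
  congr 1
  funext i
  split_ifs <;> simp

theorem pj_mul' (b : Q8) (p : Fin 9) {s s' : ℤ} (h : ¬ 3 ∣ s - s') : pj K b p s * pj K b p s' = 0 := by
  rw [pj, pj, diagonal_mul_diagonal, ← diagonal_zero]
  congr 1
  funext i
  split_ifs <;> first | omega | simp

theorem zp {ω : K} (hω : IsPrimitiveRoot ω 3) {m : ℤ} (s : ℕ) (h : 3 ∣ m - s) : ω ^ m = ω ^ s := by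
  have h0 := hω.ne_zero (by norm_num)
  rw [← zpow_natCast, ← div_eq_one_iff_eq (zpow_ne_zero _ h0), ← zpow_sub₀ h0, hω.zpow_eq_one_iff_dvd]
  exact h

theorem pj_sum {ω : K} (hω : IsPrimitiveRoot ω 3) {b : Q8} {p : Fin 9} (h : ∀ i, i ≠ p → ¬ 3 ∣ ex b (v9 i) - ex b (v9 p)) :
    single p p 1 + pj K b p 1 + pj K b p 2 = 1 ∧ (ω ^ ex b (v9 p))⁻¹ • diagonal (fun i => ω ^ ex b (v9 i)) =
      single p p 1 + ω • pj K b p 1 + ω ^ 2 • pj K b p 2 := by
  have h0 := hω.ne_zero (by norm_num)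
  rw [← diagonal_single, pj, pj, ← diagonal_smul, ← diagonal_smul, ← diagonal_smul, diagonal_add, diagonal_add,
    diagonal_add, diagonal_add, ← diagonal_one]
  constructor <;> congr 1 <;> funext i
  · by_cases e : i = p
    · rw [e, Pi.single_eq_same, if_neg (by omega), if_neg (by omega), add_zero, add_zero]
    · have h1 := h i e
      rw [Pi.single_eq_of_ne e, zero_add]
      split_ifs <;> first | omega | simp
  · simp only [Pi.smul_apply, smul_eq_mul]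
    rw [inv_mul_eq_div, ← zpow_sub₀ h0]
    by_cases e : i = p
    · rw [e, Pi.single_eq_same, if_neg (by omega), if_neg (by omega), sub_self, zpow_zero, mul_zero, mul_zero, add_zero,
        add_zero]
    · have h1 := h i e
      rw [Pi.single_eq_of_ne e, zero_add]
      split_ifs with e1 e2 e2
      · omega
      · rw [zp hω 1 e1]; ring
      · rw [zp hω 2 e2]; ring
      · omega

end

variable {F : Type u} [Field F] [Finite F] [CharP F 2] {ω : Kb F} {x y : G8 (Kb F)}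

/-- **the normal form** -/
theorem nf (hω : IsPrimitiveRoot ω 3) (hx : x ^ 3 = 1) (hy : y ^ 3 = 1) (hc : Commute x y)
    (d1 : ev (LK (Kb F) x) 1 = 80) (d2 : ev (LK (Kb F) y) 1 = 80) (d3 : ev (LK (Kb F) (x * y)) 1 = 92)
    (d4 : ev (LK (Kb F) (x * y⁻¹)) 1 = 92) : ∃ (j : M9 (Kb F) →ₗ[Kb F] L8 (Kb F)) (p : Fin 9) (π1 π2 Y' : M9 (Kb F)),
      Fr x j ∧ π1 * π1 = π1 ∧ π2 * π2 = π2 ∧ π1 * π2 = 0 ∧ π2 * π1 = 0 ∧ single p p 1 + π1 + π2 = 1 ∧
      Lk j y (single p p 1 + ω • π1 + ω ^ 2 • π2) Y' ∧ Hx (x * y) (j π2) ∧ Hx (x * y⁻¹) (j π1) := by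
  have := charKb (F := F)
  have h0 := hω.ne_zero (by norm_num)
  obtain ⟨b₀, h⟩ := pair_std hω hx hy hc tb_80 d1
  obtain ⟨v, hv, h⟩ := small hω h
  have h4 := allAlc_spec _ 8 okN (by decide) chkN [v 0, v 1, v 2, v 3, v 4, v 5, v 6, v 7] rfl hv
  have e1 := toQ_sh2 1 v
  have e2 := toQ_sh2 2 v
  have k1 := cj_ev_pow hω (by norm_num) h.right 1 (k := 0) (by norm_num)
  have k2 := cj_ev_pow hω (by norm_num) (y := sh2 1 [v 0, v 1, v 2, v 3, v 4, v 5, v 6, v 7]) (g := x * y) (by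
    rw [e1, Nat.cast_one, one_smul]
    exact h.mul h0) 1 (k := 0) (by norm_num)
  have k3 := cj_ev_pow hω (by norm_num) (y := sh2 2 [v 0, v 1, v 2, v 3, v 4, v 5, v 6, v 7]) (g := x * y⁻¹) (by
    rw [e2]
    refine ((h.inv h0).congr hω (by norm_num) (fun _ => rfl) fun i => ?_).mul h0
    have h7 : ∀ q : ZMod 3, -q = 2 * q := by decide
    simp only [Pi.neg_apply, Pi.smul_apply, smul_eq_mul]
    push_cast
    exact h7 _) 1 (k := 0) (by norm_num)
  rw [pow_one, pow_zero] at k1 k2 k3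
  rw [okN, ← k1, ← k2, ← k3, d2, d3, d4] at h4
  obtain ⟨p, g1, g2, g3⟩ : ∃ p, Good _ p := of_decide_eq_true h4
  generalize toQ [v 0, v 1, v 2, v 3, v 4, v 5, v 6, v 7] = b at h g1 g2 g3
  obtain ⟨c, c1, c2⟩ := h
  have e : ∀ g : G8 (Kb F), c * (c⁻¹ * g * c) * c⁻¹ = g := fun g => by group
  have l1 := (fr_io hω (mx_of_semi c1) (by
    have h1 := conj_pow (a := c⁻¹) (b := x) (i := 3)
    rw [inv_inv] at h1
    rw [h1, hx, mul_one, inv_mul_cancel])).conj c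
  have l2 := ((lk_mc (mc_ex h0 b) (act_dz (mx_of_semi c2))).smul (inv_ne_zero (zpow_ne_zero (ex b (v9 p)) h0))).conj c
  have l3 := (hx_dz hω (mx_of_semi (semi_mul h0 c1 c2)) (inT_diag _) (rl_pj b p 2) g2.spec.1 g2.spec.2).conj c
  have l4 := (hx_dz hω (mx_of_semi (semi_mul h0 c1 (semi_inv h0 c2))) (inT_diag _) (rl_pj b p 1)
    (by rw [← sub_eq_add_neg]; exact g3.spec.1) g3.spec.2).conj c
  rw [e] at l1 l2 l3 l4
  rw [(pj_sum hω g1).2] at l2
  exact ⟨_, p, _, _, _, l1, pj_mul b p 1, pj_mul b p 2, pj_mul' b p (by norm_num), pj_mul' b p (by norm_num),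
    (pj_sum hω g1).1, l2, l3, l4⟩

end Cfsg.Agent.E8A.TwoB
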